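import Cfsg.Agent.Lib.PiClasses.Main
import Cfsg.Agent.Lib.Characters.Counting

set_option autoImplicit false

/-! Class number against the derived subgroup, and the packaging for `S4104`, `S4105`. -/

namespace CfsgLib.PiClasses

open CfsgLib.ClassCount CfsgLib.Characters

universe u

/-- `p² k(H) ≤ |H| + (p² - 1) |H : H'|` when all primes of `|H|` are at least `p`. -/
theorem card_conjClasses_bound (H : Type u) [Group H] [Finite H] (p : ℕ)
    (hp : ∀ r : ℕ, r.Prime → r ∣ Nat.card H → p ≤ r) :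
    p ^ 2 * Nat.card (ConjClasses H) ≤ Nat.card H + (p ^ 2 - 1) * (commutator H).index := by
  classical
  haveI : Fintype H := Fintype.ofFinite H
  choose d hd hd0 hdvd using fun χ : Cfsg.IrrCharacter H => irr_degree_dvd_card χ
  have hsum : ∑ χ, d χ ^ 2 = Nat.card H := by
    have := sum_sq_degrees (G := H)
    simp only [hd] at this
    exact_mod_cast this
  have hcount : (commutator H).index =
      (Finset.univ.filter fun χ : Cfsg.IrrCharacter H => d χ = 1).card := by
    rw [← card_linear_irr, Nat.card_eq_fintype_card, Fintype.card_subtype]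
    congr 1
    ext χ
    simp [hd χ]
  rw [← card_irr_eq_card_conjClasses, Nat.card_eq_fintype_card, hcount, ← hsum, mul_comm,
    ← Finset.card_univ, ← smul_eq_mul, ← Finset.sum_const, Finset.card_filter, Finset.mul_sum,
    ← Finset.sum_add_distrib]
  refine Finset.sum_le_sum fun χ _ => ?_
  rcases eq_or_ne (d χ) 1 with h | h
  · rw [if_pos h, h, one_pow, mul_one]
    omega
  · obtain ⟨r, hr, hrd⟩ := Nat.exists_prime_and_dvd h
    have hdp : p ≤ d χ := (hp r hr (hrd.trans (hdvd χ))).trans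
      (Nat.le_of_dvd (Nat.pos_of_ne_zero fun e => by
        have := hdvd χ
        rw [e, zero_dvd_iff] at this
        exact Nat.card_pos.ne' this) hrd)
    rw [if_neg h, mul_zero, add_zero]
    exact Nat.pow_le_pow_left hdp 2

variable {G : Type u} [Group G] [Finite G]

/-- The finite set of primes of `π` dividing `|G|`. -/
theorem exists_finset (π : Set ℕ) (m : ℕ) (hm : m ∣ Nat.card G)
    (hmπ : ∀ q : ℕ, q.Prime → q ∣ m → q ∈ π) (hπ : ∀ q ∈ π, q.Prime)
    (hm' : ∀ q ∈ π, ¬ q ∣ Nat.card G / m) (k : ℕ)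
    (hk : k = Nat.card {C : ConjClasses G //
      ∀ q : ℕ, q.Prime → (∃ g : G, ConjClasses.mk g = C ∧ q ∣ orderOf g) → q ∈ π}) :
    ∃ S : Finset ℕ, (∀ r ∈ S, r.Prime ∧ r ∈ π) ∧ piPart S G = m ∧ piClassCount S G = k := by
  classical
  obtain ⟨S, hSdef⟩ : ∃ S, S = (Nat.card G).primeFactors.filter (fun r => r ∈ π) := ⟨_, rfl⟩
  have hS : ∀ r ∈ S, r.Prime ∧ r ∈ π := fun r hr => by
    rw [hSdef, Finset.mem_filter] at hr
    exact ⟨hπ r hr.2, hr.2⟩
  have hSp : ∀ r ∈ S, r.Prime := fun r hr => (hS r hr).1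
  have hmem : ∀ r : ℕ, r.Prime → r ∣ Nat.card G → r ∈ π → r ∈ S := fun r hr hd hrπ => by
    rw [hSdef, Finset.mem_filter]
    exact ⟨Nat.mem_primeFactors.2 ⟨hr, hd, Nat.card_pos.ne'⟩, hrπ⟩
  refine ⟨S, hS, ?_, ?_⟩
  · have hm0 : m ≠ 0 := fun e => Nat.card_pos.ne' (zero_dvd_iff.1 (e ▸ hm))
    apply Nat.dvd_antisymm
    · have hcop : (piPart S G).Coprime (Nat.card G / m) :=
        Nat.coprime_of_dvd fun r hr hd hd' => hm' r (hS r (mem_of_prime_dvd_piPart hSp hr hd)).2 hd'
      refine hcop.dvd_of_dvd_mul_right ?_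
      rw [Nat.mul_div_cancel' hm]
      exact piPart_dvd_card S hSp
    · rw [← Nat.factorization_le_iff_dvd hm0 (piPart_pos S hSp).ne']
      intro r
      by_cases hrm : r.Prime ∧ r ∣ m
      · have h1 : m.factorization r ≤ (Nat.card G).factorization r :=
          (Nat.factorization_le_iff_dvd hm0 Nat.card_pos.ne').2 hm r
        refine h1.trans ((hrm.1.pow_dvd_iff_le_factorization (piPart_pos S hSp).ne').1 ?_)
        exact Finset.dvd_prod_of_mem _ (hmem r hrm.1 (hrm.2.trans hm) (hmπ r hrm.1 hrm.2))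
      · have : m.factorization r = 0 := by
          rw [Nat.factorization_eq_zero_iff]
          tauto
        rw [this]
        exact Nat.zero_le _
  · rw [hk]
    refine Nat.card_congr (Equiv.subtypeEquivRight fun C => ⟨fun h r hr => ?_, fun h x hx r hr hd => ?_⟩)
    · rintro ⟨g, hg, hd⟩
      exact (hS r (h g (ConjClasses.mem_carrier_iff_mk_eq.2 hg) r hr hd)).2
    · exact hmem r hr (hd.trans (orderOf_dvd_natCard x))
        (h r hr ⟨x, ConjClasses.mem_carrier_iff_mk_eq.1 hx, hd⟩)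

/-- A nilpotent Hall subgroup with the class-number inequality. -/
theorem exists_hall_with_bound (π : Set ℕ) (hπ : ∀ q ∈ π, q.Prime) (p : ℕ)
    (hmin : ∀ q ∈ π, p ≤ q) (m : ℕ) (hm : m ∣ Nat.card G)
    (hmπ : ∀ q : ℕ, q.Prime → q ∣ m → q ∈ π) (hm' : ∀ q ∈ π, ¬ q ∣ Nat.card G / m) (k : ℕ)
    (hk : k = Nat.card {C : ConjClasses G //
      ∀ q : ℕ, q.Prime → (∃ g : G, ConjClasses.mk g = C ∧ q ∣ orderOf g) → q ∈ π})
    (hmany : m < p * k) :
    ∃ H : Subgroup G, Nat.card H = m ∧ Group.IsNilpotent H ∧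
      p ^ 2 * k * Nat.card (commutator H) + m
        ≤ m * Nat.card (commutator H) + p ^ 2 * m := by
  obtain ⟨S, hS, rfl, rfl⟩ := exists_finset π m hm hmπ hπ hm' k hk
  obtain ⟨H, hH⟩ := exists_nilHall S.card S rfl (fun r hr => (hS r hr).1) G p
    (fun r hr => hmin r (hS r hr).2) hmany
  refine ⟨H, hH.2, hH.1, ?_⟩
  have hb := card_conjClasses_bound H p fun r hr hd =>
    hmin r (hS r (hH.mem_of_dvd (fun r hr => (hS r hr).1) hr hd)).2
  have h1 := Nat.mul_le_mul_left (p ^ 2) (hH.piClassCount_le fun r hr => (hS r hr).1)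
  have h2 := Nat.mul_le_mul_right (Nat.card (commutator H)) (h1.trans hb)
  have h3 := (commutator H).card_mul_index
  rw [hH.2] at h3 h2
  have hp0 : 0 < p := Nat.pos_of_ne_zero fun e => by simp [e] at hmany
  obtain ⟨e, he⟩ : ∃ e, p ^ 2 = e + 1 := ⟨p ^ 2 - 1, by
    have := Nat.pow_pos (n := 2) hp0
    omega⟩
  rw [he] at h2 ⊢
  rw [Nat.add_sub_cancel] at h2
  nlinarith [h2, h3]

end CfsgLib.PiClasses
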