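import Cfsg.Agent.Lib.ClassCount.Product
import Cfsg.Agent.Lib.Solvable.NilpotentSubgroups

set_option autoImplicit false

/-! Class sums over centralisers and nilpotent Hall subgroups for a finite set of primes. -/

namespace CfsgLib.PiClasses

open CfsgLib.ClassCount
open scoped Pointwise

universe u v

variable {G : Type u} [Group G]

/-! ### The `S`-part of the order -/

theorem piPart_dvd_card [Finite G] (S : Finset ℕ) (hS : ∀ r ∈ S, r.Prime) :
    piPart S G ∣ Nat.card G := by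
  classical
  induction S using Finset.induction_on with
  | empty => simp [piPart]
  | @insert a s has ih =>
    rw [piPart, Finset.prod_insert has]
    refine Nat.Coprime.mul_dvd_of_dvd_of_dvd (Nat.Coprime.prod_right fun r hr => ?_)
      (Nat.ordProj_dvd _ _) (ih fun r hr => hS r (Finset.mem_insert_of_mem hr))
    refine Nat.Coprime.pow _ _ ((Nat.coprime_primes (hS a (Finset.mem_insert_self _ _))
      (hS r (Finset.mem_insert_of_mem hr))).2 ?_)
    rintro rfl
    exact has hr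

theorem mem_of_prime_dvd_piPart {S : Finset ℕ} (hS : ∀ r ∈ S, r.Prime) {r : ℕ} (hr : r.Prime)
    (h : r ∣ piPart S G) : r ∈ S := by
  obtain ⟨a, ha, hd⟩ := (Prime.dvd_finsetProd_iff (Nat.prime_iff.1 hr) _).1 h
  rwa [(Nat.prime_dvd_prime_iff_eq hr (hS a ha)).1 (hr.dvd_of_dvd_pow hd)]

theorem prime_dvd_piPart [Finite G] {S : Finset ℕ} {r : ℕ} (hr : r.Prime) (hrS : r ∈ S)
    (h : r ∣ Nat.card G) : r ∣ piPart S G := by
  refine Dvd.dvd.trans ?_ (Finset.dvd_prod_of_mem _ hrS)
  exact dvd_pow_self _ (hr.factorization_pos_of_dvd Nat.card_pos.ne' h).ne'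

theorem piPart_pos [Finite G] (S : Finset ℕ) (hS : ∀ r ∈ S, r.Prime) : 0 < piPart S G :=
  Finset.prod_pos fun r hr => pow_pos (hS r hr).pos _

theorem piPart_dvd_of_subgroup [Finite G] (S : Finset ℕ) (H : Subgroup G) :
    piPart S H ∣ piPart S G :=
  Finset.prod_dvd_prod_of_dvd _ _ fun r _ => pow_dvd_pow r
    ((Nat.factorization_le_iff_dvd Nat.card_pos.ne' Nat.card_pos.ne').mpr
      (Subgroup.card_subgroup_dvd_card H) r)

/-- A proper divisor of the `S`-part is smaller by a factor at least the least prime. -/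
theorem piPart_eq_of_lt [Finite G] {S : Finset ℕ} (hS : ∀ r ∈ S, r.Prime) {t : ℕ}
    (ht : ∀ r ∈ S, t ≤ r) (H : Subgroup G) (h : piPart S G < t * piPart S H) :
    piPart S H = piPart S G := by
  obtain ⟨e, he⟩ := piPart_dvd_of_subgroup S H
  rcases eq_or_ne e 1 with rfl | hne
  · rw [he, mul_one]
  · exfalso
    obtain ⟨r, hr, hre⟩ := Nat.exists_prime_and_dvd hne
    have hrS : r ∈ S :=
      mem_of_prime_dvd_piPart hS hr (he ▸ Dvd.dvd.mul_left hre _ : r ∣ piPart S G)
    have he0 : e ≠ 0 := by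
      rintro rfl
      exact (piPart_pos (G := G) S hS).ne' (by rw [he, mul_zero])
    have hle : t ≤ e := (ht r hrS).trans (Nat.le_of_dvd (Nat.pos_of_ne_zero he0) hre)
    rw [he, mul_comm t] at h
    exact (Nat.mul_le_mul_left _ hle).not_gt h

theorem piPart_insert {S : Finset ℕ} {q : ℕ} (hq : q ∉ S) [Finite G] [Fact q.Prime]
    (P : Sylow q G) : piPart (insert q S) G = Nat.card (P : Subgroup G) * piPart S G := by
  rw [piPart, Finset.prod_insert hq, ← P.card_eq_multiplicity]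
  rfl

/-! ### Nilpotent Hall subgroups -/

/-- A nilpotent Hall subgroup for the set of primes `S`. -/
def IsNH (S : Finset ℕ) (H : Subgroup G) : Prop :=
  Group.IsNilpotent H ∧ Nat.card H = piPart S G

theorem IsNH.mem_of_dvd {S : Finset ℕ} (hS : ∀ r ∈ S, r.Prime) {H : Subgroup G} (h : IsNH S H)
    {r : ℕ} (hr : r.Prime) (hd : r ∣ Nat.card H) : r ∈ S :=
  mem_of_prime_dvd_piPart hS hr (by rwa [h.2] at hd)

theorem IsNH.not_dvd_index [Finite G] {S : Finset ℕ} {H : Subgroup G} (h : IsNH S H)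
    {r : ℕ} (hr : r.Prime) (hrS : r ∈ S) : ¬ r ∣ H.index := by
  intro hd
  have h1 : r ^ (Nat.card G).factorization r ∣ Nat.card H := h.2 ▸ Finset.dvd_prod_of_mem _ hrS
  have h2 : r ^ ((Nat.card G).factorization r + 1) ∣ Nat.card G := by
    rw [pow_succ]
    conv_rhs => rw [← H.card_mul_index]
    exact mul_dvd_mul h1 hd
  rw [hr.pow_dvd_iff_le_factorization Nat.card_pos.ne'] at h2
  omega

theorem IsNH.coprime [Finite G] {S : Finset ℕ} (hS : ∀ r ∈ S, r.Prime) {H : Subgroup G}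
    (h : IsNH S H) : (Nat.card H).Coprime H.index :=
  Nat.coprime_of_dvd fun _ hr hd hd' => h.not_dvd_index hr (h.mem_of_dvd hS hr hd) hd'

theorem IsNH.smul {S : Finset ℕ} {H : Subgroup G} (h : IsNH S H) (g : G) :
    IsNH S (MulAut.conj g • H : Subgroup G) := by
  obtain ⟨hn, hc⟩ := h
  exact ⟨Group.nilpotent_of_mulEquiv (Subgroup.equivSMul (MulAut.conj g) H),
    (Nat.card_congr (Subgroup.equivSMul (MulAut.conj g) H).toEquiv).symm.trans hc⟩

theorem IsNH.conj [Finite G] {S : Finset ℕ} (hS : ∀ r ∈ S, r.Prime) {H K : Subgroup G}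
    (hH : IsNH S H) (hK : IsNH S K) : ∃ g : G, K = MulAut.conj g • H := by
  obtain ⟨g, hg⟩ := NilpotentSubgroups.exists_le_conj hH.1 (hH.coprime hS) K
    (fun r _ hd => by rw [hH.2, ← hK.2]; exact hd)
  refine ⟨g, Subgroup.eq_of_le_of_card_ge hg ?_⟩
  rw [(hH.smul g).2, hK.2]

theorem IsNH.exists_conj_mem [Finite G] {S : Finset ℕ} (hS : ∀ r ∈ S, r.Prime) {H : Subgroup G}
    (hH : IsNH S H) {x : G} (hx : PiElt S x) : ∃ g : G, g * x * g⁻¹ ∈ H := by
  obtain ⟨g, hg⟩ := NilpotentSubgroups.exists_le_conj hH.1 (hH.coprime hS) (Subgroup.zpowers x)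
    (fun r hr hd => by
      rw [hH.2]
      rw [Nat.card_zpowers] at hd
      exact prime_dvd_piPart hr (hx r hr hd) (hd.trans (orderOf_dvd_natCard x)))
  refine ⟨g⁻¹, ?_⟩
  have h1 := hg (Subgroup.mem_zpowers x)
  rw [Subgroup.mem_pointwise_smul_iff_inv_smul_mem] at h1
  simpa [MulAut.conj_symm_apply] using h1

theorem IsNH.piPart_eq [Finite G] {S : Finset ℕ} (hS : ∀ r ∈ S, r.Prime) {H D : Subgroup G}
    (hH : IsNH S H) (hle : H ≤ D) : piPart S D = piPart S G := by
  refine le_antisymm (piPart_le_of_subgroup S hS D) (Nat.le_of_dvd (piPart_pos S hS) ?_)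
  refine Finset.prod_dvd_prod_of_dvd _ _ fun r hr => pow_dvd_pow r ?_
  rw [← (hS r hr).pow_dvd_iff_le_factorization Nat.card_pos.ne']
  refine Dvd.dvd.trans ?_ (Subgroup.card_dvd_of_le hle)
  rw [hH.2]
  exact Finset.dvd_prod_of_mem _ hr

theorem IsNH.subgroupOf [Finite G] {S : Finset ℕ} (hS : ∀ r ∈ S, r.Prime) {H D : Subgroup G}
    (hH : IsNH S H) (hle : H ≤ D) : IsNH S (H.subgroupOf D) := by
  obtain ⟨hn, hc⟩ := id hH
  refine ⟨Group.nilpotent_of_mulEquiv (Subgroup.subgroupOfEquivOfLe hle).symm, ?_⟩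
  rw [Nat.card_congr (Subgroup.subgroupOfEquivOfLe hle).toEquiv, hc, hH.piPart_eq hS hle]

theorem IsNH.map_subtype {S : Finset ℕ} {D : Subgroup G} {H : Subgroup D} (hH : IsNH S H)
    (he : piPart S D = piPart S G) : IsNH S (H.map D.subtype) := by
  obtain ⟨hn, hc⟩ := hH
  refine ⟨Group.nilpotent_of_mulEquiv (H.equivMapOfInjective D.subtype D.subtype_injective), ?_⟩
  rw [Subgroup.card_map_of_injective D.subtype_injective, hc, he]

theorem isNH_empty : IsNH ∅ (⊥ : Subgroup G) := by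
  exact ⟨inferInstance, by simp [piPart]⟩

theorem isNH_sylow [Finite G] {q : ℕ} [Fact q.Prime] (P : Sylow q G) :
    IsNH {q} (P : Subgroup G) :=
  ⟨P.2.isNilpotent, (piPart_singleton P).symm⟩

/-! ### Class counts -/

/-- Comparing class counts along a homomorphism that meets every class. -/
theorem piClassCount_le_of_hom [Finite G] {K : Type v} [Group K] [Finite K] (S : Finset ℕ)
    (f : K →* G) (hf : Function.Injective f)
    (h : ∀ x : G, PiElt S x → ∃ y : K, IsConj (f y) x) :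
    piClassCount S G ≤ piClassCount S K := by
  refine Nat.card_le_card_of_surjective
    (fun c => (⟨ConjClasses.map f c.1, ?_⟩ : {c : ConjClasses G // ∀ x ∈ c.carrier, PiElt S x})) ?_
  · obtain ⟨c, hc⟩ := c
    obtain ⟨y, rfl⟩ := ConjClasses.mk_surjective c
    have hy := (forall_carrier_iff y).mp hc
    exact (forall_carrier_iff (f y)).mpr fun r hr hd => hy r hr (by rwa [orderOf_injective f hf] at hd)
  · rintro ⟨c, hc⟩
    obtain ⟨x, rfl⟩ := ConjClasses.mk_surjective c
    obtain ⟨y, hy⟩ := h x ((forall_carrier_iff x).mp hc)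
    have hy' : PiElt S y := fun r hr hd =>
      piElt_conj hy.symm ((forall_carrier_iff x).mp hc) r hr (by rwa [orderOf_injective f hf])
    exact ⟨⟨ConjClasses.mk y, (forall_carrier_iff y).mpr hy'⟩,
      Subtype.ext (ConjClasses.mk_eq_mk_iff_isConj.mpr hy)⟩

theorem piClassCount_le_card_conjClasses [Finite G] (S : Finset ℕ) :
    piClassCount S G ≤ Nat.card (ConjClasses G) :=
  Nat.card_le_card_of_injective Subtype.val Subtype.val_injective

/-- `k_S(D) ≤ k_S(K)` for `H ≤ K ≤ D` with `H` nilpotent Hall. -/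
theorem IsNH.piClassCount_mono [Finite G] {S : Finset ℕ} (hS : ∀ r ∈ S, r.Prime)
    {H K D : Subgroup G} (hH : IsNH S H) (hHK : H ≤ K) (hKD : K ≤ D) :
    piClassCount S D ≤ piClassCount S K := by
  refine piClassCount_le_of_hom S (Subgroup.inclusion hKD) (Subgroup.inclusion_injective hKD) ?_
  intro x hx
  obtain ⟨g, hg⟩ := (hH.subgroupOf hS (hHK.trans hKD)).exists_conj_mem hS hx
  refine ⟨⟨((g * x * g⁻¹ : D) : G), hHK hg⟩, isConj_iff.mpr ⟨g⁻¹, ?_⟩⟩
  show g⁻¹ * (g * x * g⁻¹) * g⁻¹⁻¹ = x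
  group

/-- `k_S(G) ≤ k(H)` for a nilpotent Hall subgroup `H`. -/
theorem IsNH.piClassCount_le [Finite G] {S : Finset ℕ} (hS : ∀ r ∈ S, r.Prime)
    {H : Subgroup G} (hH : IsNH S H) : piClassCount S G ≤ Nat.card (ConjClasses H) := by
  refine (piClassCount_le_of_hom S H.subtype H.subtype_injective fun x hx => ?_).trans
    (piClassCount_le_card_conjClasses S)
  obtain ⟨g, hg⟩ := hH.exists_conj_mem hS hx
  exact ⟨⟨_, hg⟩, isConj_iff.mpr ⟨g⁻¹, by simp [mul_assoc]⟩⟩

/-- One step with a chosen set of representatives: split off the prime `q`. -/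
theorem piClassCount_insert_le_sum [Finite G] {q : ℕ} [hq : Fact q.Prime] (S : Finset ℕ)
    (X : Finset G) (hX : ∀ a : G, PiElt {q} a → ∃ y ∈ X, IsConj y a) :
    piClassCount (insert q S) G
      ≤ ∑ y ∈ X, piClassCount S (Subgroup.centralizer ({y} : Set G)) := by
  classical
  let T : {y : G // y ∈ X} → Type u := fun y =>
    {d : ConjClasses (Subgroup.centralizer ({(y : G)} : Set G)) // ∀ z ∈ d.carrier, PiElt S z}
  calc piClassCount (insert q S) G ≤ Nat.card (Σ y, T y) := ?_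
    _ = ∑ y : {y : G // y ∈ X}, Nat.card (T y) := Nat.card_sigma
    _ = _ := Finset.sum_coe_sort X (fun y => piClassCount S (Subgroup.centralizer ({y} : Set G)))
  let f : (Σ y, T y) → ConjClasses G := fun z =>
    Quotient.liftOn z.2.1 (fun b => ConjClasses.mk ((z.1 : G) * (b : G))) (fun b b' h => by
      obtain ⟨w, hw⟩ := isConj_iff.mp h
      rw [ConjClasses.mk_eq_mk_iff_isConj, isConj_iff]
      refine ⟨(w : G), ?_⟩
      have hwc : (z.1 : G) * (w : G) = w * z.1 := w.2 (z.1 : G) rfl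
      have hw' : (w : G) * b * (w : G)⁻¹ = b' := congrArg Subtype.val hw
      rw [← hw', ← mul_assoc (w : G), ← hwc]
      group)
  refine le_trans ?_ (Nat.card_le_card_of_surjective
    (fun z => (⟨f z, ⟨z, rfl⟩⟩ : Set.range f)) (by rintro ⟨_, z, rfl⟩; exact ⟨z, rfl⟩))
  refine Nat.card_le_card_of_injective
    (fun c : {c : ConjClasses G // ∀ x ∈ c.carrier, PiElt (insert q S) x} =>
      (⟨c.1, ?_⟩ : Set.range f)) (fun a b h => Subtype.ext (congrArg Subtype.val h :))
  obtain ⟨c, hc⟩ := c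
  obtain ⟨g, rfl⟩ := ConjClasses.mk_surjective c
  have hg := (forall_carrier_iff g).mp hc
  obtain ⟨a, b, hab, hcom, ⟨k, hak⟩, hbd, hbp⟩ := exists_parts hq.out g
  have ha : PiElt {q} a := fun r hr hd => by
    simpa using (Nat.prime_dvd_prime_iff_eq hr hq.out).mp (hr.dvd_of_dvd_pow (hd.trans hak))
  obtain ⟨y, hy, hconj⟩ := hX a ha
  obtain ⟨t, ht⟩ := isConj_iff.mp hconj.symm
  have hmem : t * b * t⁻¹ ∈ Subgroup.centralizer ({y} : Set G) := by
    rw [Subgroup.mem_centralizer_iff]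
    intro h hh
    rw [Set.mem_singleton_iff.mp hh, ← ht]
    calc t * a * t⁻¹ * (t * b * t⁻¹) = t * (a * b) * t⁻¹ := by group
      _ = t * (b * a) * t⁻¹ := by rw [hcom.eq]
      _ = _ := by group
  have hb : PiElt S (⟨t * b * t⁻¹, hmem⟩ : Subgroup.centralizer ({y} : Set G)) := by
    intro r hr hd
    rw [Subgroup.orderOf_mk] at hd
    have ho : orderOf (t * b * t⁻¹) = orderOf b := (MulAut.conj t).orderOf_eq b
    rw [ho] at hd
    rcases Finset.mem_insert.mp (hg r hr (hd.trans hbd)) with rfl | h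
    · exact absurd hd hbp
    · exact h
  refine ⟨⟨⟨y, hy⟩, ⟨ConjClasses.mk ⟨t * b * t⁻¹, hmem⟩, (forall_carrier_iff _).mpr hb⟩⟩, ?_⟩
  show ConjClasses.mk (y * (t * b * t⁻¹)) = ConjClasses.mk g
  rw [ConjClasses.mk_eq_mk_iff_isConj, isConj_iff]
  exact ⟨t⁻¹, by rw [← ht, hab]; group⟩

/-- `k_S(G) ≤ |X| · |G|_{S∖r}` when `X` meets every class of `r`-elements. -/
theorem piClassCount_le_card_mul [Finite G] {r : ℕ} [Fact r.Prime] {S : Finset ℕ}
    (hS : ∀ s ∈ S, s.Prime) (hr : r ∈ S) (X : Finset G)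
    (hX : ∀ a : G, PiElt {r} a → ∃ y ∈ X, IsConj y a) :
    piClassCount S G ≤ X.card * piPart (S.erase r) G := by
  classical
  have hs : ∀ s ∈ S.erase r, s.Prime := fun s h => hS s (Finset.mem_of_mem_erase h)
  have h := piClassCount_insert_le_sum (S.erase r) X hX
  rw [Finset.insert_erase hr] at h
  refine h.trans ((Finset.sum_le_card_nsmul _ _ _ fun y _ => ?_).trans_eq (smul_eq_mul _ _))
  exact (piClassCount_le_piPart _ hs _).trans (piPart_le_of_subgroup _ hs _)

end CfsgLib.PiClasses
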