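import Cfsg.Agent.Lib.PiClasses.Moved
import Mathlib.GroupTheory.NoncommCoprod

set_option autoImplicit false

/-! More than `|G|_S / p` classes of `S`-elements give a nilpotent Hall `S`-subgroup. -/

namespace CfsgLib.PiClasses

open CfsgLib.ClassCount
open scoped Pointwise

universe u

/-- A Sylow subgroup centralising a nilpotent Hall subgroup for the other primes. -/
theorem isNH_insert_of_centralizes {G : Type u} [Group G] [Finite G] {q : ℕ} [hq : Fact q.Prime]
    {S : Finset ℕ} (hS : ∀ r ∈ S, r.Prime) (hqS : q ∉ S) (P : Sylow q G) {H : Subgroup G}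
    (hH : IsNH S H) (hPH : (P : Subgroup G) ≤ Subgroup.centralizer (H : Set G)) :
    ∃ K : Subgroup G, IsNH (insert q S) K := by
  have hcomm : ∀ (a : (P : Subgroup G)) (b : H), Commute ((P : Subgroup G).subtype a) (H.subtype b) :=
    fun a b => (Subgroup.mem_centralizer_iff.1 (hPH a.2) b b.2).symm
  let f := MonoidHom.noncommCoprod (P : Subgroup G).subtype H.subtype hcomm
  have hinf : (P : Subgroup G) ⊓ H = ⊥ := by
    refine Subgroup.inf_eq_bot_of_coprime (Nat.coprime_of_dvd fun r hr hd hd' => hqS ?_)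
    obtain ⟨i, hi⟩ := P.2.exists_card_eq
    rw [hi] at hd
    rw [← (Nat.prime_dvd_prime_iff_eq hr hq.out).1 (hr.dvd_of_dvd_pow hd)]
    exact hH.mem_of_dvd hS hr hd'
  have hinj : Function.Injective f := by
    rw [← MonoidHom.ker_eq_bot_iff, eq_bot_iff]
    rintro ⟨a, b⟩ hab
    have hab' : (a : G) * b = 1 := hab
    have ha : (a : G) = (b : G)⁻¹ := eq_inv_of_mul_eq_one_left hab'
    have hmem : (a : G) ∈ (P : Subgroup G) ⊓ H := ⟨a.2, ha ▸ H.inv_mem b.2⟩
    rw [hinf, Subgroup.mem_bot] at hmem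
    have hb : (b : G) = 1 := by rwa [hmem, one_mul] at hab'
    exact Subgroup.mem_bot.2 (Prod.ext (Subtype.ext hmem) (Subtype.ext hb))
  haveI := hH.1
  haveI : Group.IsNilpotent (P : Subgroup G) := P.2.isNilpotent
  refine ⟨f.range, Group.nilpotent_of_mulEquiv (MonoidHom.ofInjective hinj), ?_⟩
  rw [← Nat.card_congr (MonoidHom.ofInjective hinj).toEquiv, Nat.card_prod, piPart_insert hqS P,
    hH.2]

/-- Arithmetic for a Sylow subgroup with large index over the centralising part. -/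
theorem index_arith {q q' p0 b j : ℕ} (hq : 2 ≤ q) (hqq' : q < q') (hj : q ^ 2 ≤ j)
    (hb : b + p0 ≤ j * p0) : q * (p0 * q' + b) ≤ q' * (j * p0) := by
  obtain ⟨d, rfl⟩ : ∃ d, q' = q + 1 + d := ⟨q' - (q + 1), by omega⟩
  have h1 : q * b + q * p0 ≤ q * (j * p0) := by rw [← Nat.mul_add]; exact Nat.mul_le_mul_left q hb
  have h2 : q ^ 2 * (p0 * (1 + d)) ≤ j * (p0 * (1 + d)) := Nat.mul_le_mul_right _ hj
  have h3 : q * (p0 * d) ≤ q ^ 2 * (p0 * d) :=
    Nat.mul_le_mul_right _ (Nat.le_self_pow (by norm_num) q)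
  nlinarith [h1, h2, h3]

/-- Arithmetic for a nonabelian Sylow subgroup. -/
theorem nonabelian_arith {q q' p0 x0 x1 f0 f1 z b : ℕ} (hq : 2 ≤ q) (hqq' : q < q')
    (h0 : q * x0 ≤ p0 + (q - 1) * f0) (h1 : q * x1 ≤ b + (q - 1) * f1)
    (hb : b + p0 ≤ q * p0) (hf : f0 + f1 ≤ z) (hz : q * z ≤ p0) :
    q * (x0 * q' + x1) ≤ q * (q' * p0) := by
  obtain ⟨d, rfl⟩ : ∃ d, q = d + 1 := ⟨q - 1, by omega⟩
  rw [Nat.add_sub_cancel] at h0 h1
  have e1 : q' * f0 + f1 ≤ q' * z :=
    le_trans (by nlinarith) (Nat.mul_le_mul_left q' hf)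
  have e2 : (d + 1) * (q' * z + p0) ≤ (d + 1) * (q' * p0) := by
    have : (d + 1) * (q' * z) ≤ q' * p0 := by
      calc (d + 1) * (q' * z) = q' * ((d + 1) * z) := by ring
        _ ≤ q' * p0 := Nat.mul_le_mul_left _ hz
    have hd : q' + (d + 1) ≤ (d + 1) * q' := by nlinarith
    nlinarith [Nat.mul_le_mul_right p0 hd]
  have e3 : q' * z + p0 ≤ q' * p0 := Nat.le_of_mul_le_mul_left e2 (by omega)
  have e4 : d * (q' * f0 + f1 + p0) ≤ d * (q' * p0) := Nat.mul_le_mul_left _ (by omega)
  have e5 := Nat.mul_le_mul_left q' h0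
  nlinarith [e4, e5, h1, hb]

/-- Arithmetic for an abelian Sylow subgroup with `N(P) = C(P)`. -/
theorem abelian_arith_one {q q' r p0 B m x1 : ℕ} (hq : 2 ≤ q) (hqq' : q < q') (hr : q' ≤ r)
    (hB : r * q * B ≤ (r + q - 1) * m) (hx : x1 + p0 ≤ q * p0) :
    r * q * (p0 * (q' * B) + x1 * m) ≤ r * q * (q' * p0 * m) := by
  obtain ⟨d, rfl⟩ : ∃ d, q = d + 1 := ⟨q - 1, by omega⟩
  obtain ⟨e, rfl⟩ : ∃ e, r = e + 1 := ⟨r - 1, by omega⟩
  rw [show e + 1 + (d + 1) - 1 = e + 1 + d by omega] at hB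
  have hx' : x1 ≤ d * p0 := by nlinarith
  have key : q' * (e + 1 + d) + (e + 1) * (d + 1) * d ≤ (e + 1) * (d + 1) * q' := by
    have : (e + 1) * (d + 1) ≤ q' * e := by nlinarith [Nat.mul_le_mul_right e hqq']
    nlinarith [Nat.mul_le_mul_left d this]
  calc (e + 1) * (d + 1) * (p0 * (q' * B) + x1 * m)
      = p0 * q' * ((e + 1) * (d + 1) * B) + (e + 1) * (d + 1) * (x1 * m) := by ring
    _ ≤ p0 * q' * ((e + 1 + d) * m) + (e + 1) * (d + 1) * (d * p0 * m) := by
        gcongr
    _ = (q' * (e + 1 + d) + (e + 1) * (d + 1) * d) * (p0 * m) := by ring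
    _ ≤ ((e + 1) * (d + 1) * q') * (p0 * m) := Nat.mul_le_mul_right _ key
    _ = _ := by ring

/-- Arithmetic for an abelian Sylow subgroup with `N(P) ≠ C(P)`. -/
theorem abelian_arith_two {q q' r p0 B m x1 : ℕ} (hq : 2 ≤ q) (hqq' : q < q') (hr : q' ≤ r)
    (hB : r * 2 * B ≤ (r + 2 - 1) * m) (hx : 2 * x1 + p0 ≤ q * p0) :
    r * 2 * (p0 * (q' * B) + x1 * m) ≤ r * 2 * (q' * p0 * m) := by
  obtain ⟨d, rfl⟩ : ∃ d, q = d + 1 := ⟨q - 1, by omega⟩
  obtain ⟨e, rfl⟩ : ∃ e, r = e + 1 := ⟨r - 1, by omega⟩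
  rw [show e + 1 + 2 - 1 = e + 2 by omega] at hB
  have hx' : 2 * x1 ≤ d * p0 := by nlinarith
  have key : q' * (e + 2) + (e + 1) * d ≤ (e + 1) * 2 * q' := by
    nlinarith [Nat.mul_le_mul_right e hqq']
  calc (e + 1) * 2 * (p0 * (q' * B) + x1 * m)
      = p0 * q' * ((e + 1) * 2 * B) + (e + 1) * ((2 * x1) * m) := by ring
    _ ≤ p0 * q' * ((e + 2) * m) + (e + 1) * ((d * p0) * m) := by gcongr
    _ = (q' * (e + 2) + (e + 1) * d) * (p0 * m) := by ring
    _ ≤ ((e + 1) * 2 * q') * (p0 * m) := Nat.mul_le_mul_right _ key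
    _ = _ := by ring

/-- A subgroup strictly above a subgroup of prime index is everything. -/
theorem eq_of_relIndex_prime {G : Type u} [Group G] {q : ℕ} (hq : q.Prime) {A K P : Subgroup G}
    (hAK : A ≤ K) (hKP : K ≤ P) (hidx : A.relIndex P = q) {y : G} (hyK : y ∈ K) (hyA : y ∉ A) :
    P ≤ K := by
  have hmul := Subgroup.relIndex_mul_relIndex A K P hAK hKP
  rw [hidx] at hmul
  rcases (Nat.dvd_prime hq).1 ⟨_, hmul.symm⟩ with h | h
  · exact absurd ((Subgroup.relIndex_eq_one.1 h) hyK) hyA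
  · rw [h] at hmul
    refine Subgroup.relIndex_eq_one.1 (Nat.eq_of_mul_eq_mul_left hq.pos ?_)
    rw [hmul, mul_one]

theorem exists_nilHall : ∀ (n : ℕ) (S : Finset ℕ), S.card = n → (∀ r ∈ S, r.Prime) →
    ∀ (G : Type u) [Group G] [Finite G] (p : ℕ), (∀ r ∈ S, p ≤ r) →
      piPart S G < p * piClassCount S G → ∃ H : Subgroup G, IsNH S H := by
  classical
  intro n
  induction n using Nat.strong_induction_on with
  | _ n ih =>
  intro S hn hS G _ _ p hp hmany
  rcases S.eq_empty_or_nonempty with rfl | hne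
  · exact ⟨⊥, isNH_empty⟩
  obtain ⟨q, hqS, hqmin⟩ : ∃ q ∈ S, ∀ r ∈ S, q ≤ r :=
    ⟨S.min' hne, S.min'_mem hne, fun r hr => S.min'_le r hr⟩
  haveI hq : Fact q.Prime := ⟨hS q hqS⟩
  set S' := S.erase q with hS'def
  have hins : insert q S' = S := Finset.insert_erase hqS
  have hqS' : q ∉ S' := Finset.notMem_erase q S
  rcases S'.eq_empty_or_nonempty with he | hne'
  · refine ⟨(default : Sylow q G), ?_⟩
    rw [← hins, he]
    exact isNH_sylow _
  have hS' : ∀ r ∈ S', r.Prime := fun r hr => hS r (Finset.mem_of_mem_erase hr)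
  obtain ⟨q', hq'S, hq'min⟩ : ∃ q' ∈ S', ∀ r ∈ S', q' ≤ r :=
    ⟨S'.min' hne', S'.min'_mem hne', fun r hr => S'.min'_le r hr⟩
  have hqlt : ∀ r ∈ S', q < r := fun r hr =>
    lt_of_le_of_ne (hqmin r (Finset.mem_of_mem_erase hr)) (fun e => hqS' (e ▸ hr))
  have hqq' : q < q' := hqlt q' hq'S
  have hq2 : 2 ≤ q := hq.out.two_le
  set k := piClassCount S G with hk
  set m' := piPart S' G with hm'
  haveI := Fintype.ofFinite G
  -- lifting
  have hlift : ∀ (t : ℕ) (D : Subgroup G), (∀ r ∈ S', t ≤ r) →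
      m' < t * piClassCount S' D → ∃ H : Subgroup G, H ≤ D ∧ IsNH S' H := by
    intro t D ht h
    have h1 : m' < t * piPart S' D :=
      h.trans_le (Nat.mul_le_mul_left t (piClassCount_le_piPart S' hS' D))
    have he := piPart_eq_of_lt hS' ht D h1
    obtain ⟨H, hH⟩ := ih S'.card (hn ▸ Finset.card_erase_lt_of_mem hqS) S' rfl hS' D t ht
      (he.symm ▸ h)
    exact ⟨H.map D.subtype, Subgroup.map_subtype_le H, hH.map_subtype he⟩
  have hsum : ∀ X : Finset G, (∀ a : G, PiElt {q} a → ∃ y ∈ X, IsConj y a) →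
      k ≤ ∑ y ∈ X, piClassCount S' (Subgroup.centralizer ({y} : Set G)) := fun X hX => by
    rw [hk, ← hins]; exact piClassCount_insert_le_sum S' X hX
  have hkq : ∀ P : Sylow q G, Nat.card (P : Subgroup G) * m' < q * k := fun P => by
    rw [← piPart_insert hqS' P, hins]
    exact hmany.trans_le (Nat.mul_le_mul_right _ (hp q hqS))
  -- a nilpotent Hall subgroup for the larger primes
  obtain ⟨H0, hH0⟩ : ∃ H0 : Subgroup G, IsNH S' H0 := by
    let P : Sylow q G := default
    by_contra hno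
    set X : Finset G := Finset.univ.filter (· ∈ (P : Subgroup G))
    have h1 := hsum X fun a ha => by
      obtain ⟨y, hy, hya⟩ := exists_mem_sylow_isConj P ha
      exact ⟨y, by simp [X, hy], hya⟩
    have h2 : ∀ y ∈ X, q * piClassCount S' (Subgroup.centralizer ({y} : Set G)) ≤ m' :=
      fun y _ => not_lt.1 fun hlt => hno (by
        obtain ⟨H, -, hH⟩ := hlift q _ (fun r hr => (hqlt r hr).le) hlt
        exact ⟨H, hH⟩)
    have h3 : q * k ≤ X.card * m' :=
      (Nat.mul_le_mul_left q h1).trans (by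
        rw [Finset.mul_sum]
        exact (Finset.sum_le_card_nsmul _ _ _ h2).trans_eq (smul_eq_mul _ _))
    have hXc : X.card = Nat.card (P : Subgroup G) := by
      rw [Nat.card_eq_fintype_card, Fintype.card_subtype]
    exact (hkq P).not_ge (hXc ▸ h3)
  set C0 := Subgroup.centralizer (H0 : Set G) with hC0
  let P0s : Sylow q C0 := default
  set P0 : Subgroup G := (P0s : Subgroup C0).map C0.subtype with hP0
  obtain ⟨P, hP0P⟩ := (P0s.2.map C0.subtype).exists_le_sylow
  have hP0C : P0 ≤ C0 := Subgroup.map_subtype_le _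
  have hm'pos : 0 < m' := piPart_pos S' hS'
  have hP0c : Nat.card P0 = q ^ (Nat.card C0).factorization q := by
    rw [hP0, Subgroup.card_map_of_injective C0.subtype_injective, P0s.card_eq_multiplicity]
  -- the bad elements
  have hbad : ∀ x : G, PiElt {q} x → (¬ ∃ g : G, g * x * g⁻¹ ∈ P0) →
      q' * piClassCount S' (Subgroup.centralizer ({x} : Set G)) ≤ m' := by
    intro x hx hno
    by_contra hlt
    obtain ⟨H, hHle, hH⟩ := hlift q' _ hq'min (not_le.1 hlt)
    obtain ⟨g, rfl⟩ := hH0.conj hS' hH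
    have hmem : g⁻¹ * x * g ∈ C0 := by
      refine Subgroup.mem_centralizer_iff.2 fun h hh => ?_
      have h1 := hHle (Subgroup.smul_mem_pointwise_smul h (MulAut.conj g) H0 hh)
      rw [Subgroup.mem_centralizer_singleton_iff] at h1
      have h2 := congrArg (fun w => g⁻¹ * w * g) h1
      simpa [mul_assoc] using h2
    have hpe : PiElt {q} (⟨_, hmem⟩ : C0) := fun r hr hd => by
      rw [Subgroup.orderOf_mk] at hd
      have he : orderOf (g⁻¹ * x * g) = orderOf x := by
        simpa using (MulAut.conj g⁻¹).orderOf_eq x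
      exact hx r hr (he ▸ hd)
    obtain ⟨y, hy, hyx⟩ := exists_mem_sylow_isConj P0s hpe
    obtain ⟨c, hc⟩ := isConj_iff.1 hyx
    refine hno ⟨(g * (c : G))⁻¹, ?_⟩
    have hc' : (c : G) * y * (c : G)⁻¹ = g⁻¹ * x * g := congrArg Subtype.val hc
    refine ⟨y, hy, ?_⟩
    have : x = g * ((c : G) * y * (c : G)⁻¹) * g⁻¹ := by rw [hc']; group
    rw [this, Subgroup.coe_subtype]
    group
  have noc : ∀ (Q : Sylow q G) (H : Subgroup G), IsNH S' H →
      (Q : Subgroup G) ≤ Subgroup.centralizer (H : Set G) →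
        Nat.card (P : Subgroup G) ≤ Nat.card P0 := by
    intro Q H hH hQ
    obtain ⟨g, rfl⟩ := hH0.conj hS' hH
    have hle : (Q : Subgroup G).map (MulAut.conj g⁻¹).toMonoidHom ≤ C0 := by
      rintro _ ⟨z, hz, rfl⟩
      refine Subgroup.mem_centralizer_iff.2 fun h hh => ?_
      have h1 := Subgroup.mem_centralizer_iff.1 (hQ hz) _
        (Subgroup.smul_mem_pointwise_smul h (MulAut.conj g) H0 hh)
      simp only [MulAut.smul_def, MulAut.conj_apply] at h1
      have h2 := congrArg (fun w => g⁻¹ * w * g) h1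
      simpa [MulAut.conj_apply, mul_assoc] using h2
    have hd := Subgroup.card_dvd_of_le hle
    rw [Subgroup.card_map_of_injective (MulAut.conj g⁻¹).injective, Q.card_eq_multiplicity,
      hq.out.pow_dvd_iff_le_factorization Nat.card_pos.ne'] at hd
    rw [P.card_eq_multiplicity, hP0c]
    exact Nat.pow_le_pow_right hq.out.pos hd
  -- the index of `P0` in `P`
  have hmul : P0.relIndex (P : Subgroup G) * Nat.card P0 = Nat.card (P : Subgroup G) := by
    rw [mul_comm, ← Nat.card_congr (Subgroup.subgroupOfEquivOfLe hP0P).toEquiv]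
    exact Subgroup.card_mul_index _
  obtain ⟨i, hi⟩ : ∃ i, P0.relIndex (P : Subgroup G) = q ^ i := P.2.index _
  rcases Nat.eq_zero_or_pos i with rfl | hipos
  · -- a Sylow subgroup centralises `H0`
    have heq : P0 = (P : Subgroup G) :=
      Subgroup.eq_of_le_of_card_ge hP0P (by rw [← hmul, hi, pow_zero, one_mul])
    rw [← hins]
    exact isNH_insert_of_centralizes hS' hqS' P hH0 (heq ▸ hP0C)
  exfalso
  have hlt0 : Nat.card P0 < Nat.card (P : Subgroup G) := by
    rw [← hmul, hi]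
    exact lt_mul_of_one_lt_left Nat.card_pos (Nat.one_lt_pow hipos.ne' hq.out.one_lt)
  -- the two sets of representatives
  set Y0 : Finset G := Finset.univ.filter (· ∈ P0) with hY0
  set Yb : Finset G := Finset.univ.filter
    (fun x => x ∈ (P : Subgroup G) ∧ ¬ ∃ g : G, g * x * g⁻¹ ∈ P0) with hYb
  have hY0mem : ∀ x, x ∈ Y0 ↔ x ∈ P0 := fun x => by simp [Y0]
  have hYbmem : ∀ x, x ∈ Yb ↔ x ∈ (P : Subgroup G) ∧ ¬ ∃ g : G, g * x * g⁻¹ ∈ P0 :=
    fun x => by simp [Yb]
  have hY0c : Y0.card = Nat.card P0 := by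
    rw [Nat.card_eq_fintype_card, Fintype.card_subtype]
  have hdisj : ∀ x ∈ Y0, x ∉ Yb := fun x hx hx' =>
    ((hYbmem x).1 hx').2 ⟨1, by simpa using (hY0mem x).1 hx⟩
  have hYbc : Yb.card + Nat.card P0 ≤ Nat.card (P : Subgroup G) := by
    rw [← hY0c, ← Finset.card_union_of_disjoint (Finset.disjoint_left.2 fun x h1 h2 =>
      hdisj x h2 h1), Nat.card_eq_fintype_card, Fintype.card_subtype]
    refine Finset.card_le_card fun x hx => ?_
    rcases Finset.mem_union.1 hx with hx | hx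
    · simp [((hYbmem x).1 hx).1]
    · simp [hP0P ((hY0mem x).1 hx)]
  have hcomb : ∀ (X0 X1 : Finset G) (B : ℕ), X0 ⊆ Y0 → X1 ⊆ Yb →
      (∀ y ∈ Y0, ∃ x ∈ X0, IsConj x y) → (∀ y ∈ Yb, ∃ x ∈ X1, IsConj x y) →
      (∀ x ∈ X0, piClassCount S' (Subgroup.centralizer ({x} : Set G)) ≤ B) →
      q' * k ≤ X0.card * (q' * B) + X1.card * m' := by
    intro X0 X1 B h0 h1 hc0 hc1 hB
    have h := hsum (X0 ∪ X1) fun a ha => by
      obtain ⟨y, hy, hya⟩ := exists_mem_sylow_isConj P ha
      by_cases hg : ∃ g : G, g * y * g⁻¹ ∈ P0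
      · obtain ⟨g, hg⟩ := hg
        obtain ⟨x, hx, hxy⟩ := hc0 _ ((hY0mem _).2 hg)
        exact ⟨x, Finset.mem_union_left _ hx,
          hxy.trans ((isConj_iff.2 ⟨g, rfl⟩ : IsConj y (g * y * g⁻¹)).symm.trans hya)⟩
      · obtain ⟨x, hx, hxy⟩ := hc1 y ((hYbmem y).2 ⟨hy, hg⟩)
        exact ⟨x, Finset.mem_union_right _ hx, hxy.trans hya⟩
    rw [Finset.sum_union (Finset.disjoint_left.2 fun x hx0 hx1 => hdisj x (h0 hx0) (h1 hx1))] at h
    refine (Nat.mul_le_mul_left q' h).trans ?_
    rw [Nat.mul_add, Finset.mul_sum, Finset.mul_sum]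
    refine Nat.add_le_add
      ((Finset.sum_le_card_nsmul _ _ _ fun x hx => Nat.mul_le_mul_left q' (hB x hx)).trans_eq
        (smul_eq_mul _ _))
      ((Finset.sum_le_card_nsmul _ _ _ fun x hx => ?_).trans_eq (smul_eq_mul _ _))
    obtain ⟨hxP, hxno⟩ := (hYbmem x).1 (h1 hx)
    exact hbad x (piElt_of_mem_pGroup P.2 hxP) hxno
  have hfin : ∀ a : ℕ, 0 < a → a * (q' * k) * q ≤ a * (q' * (Nat.card (P : Subgroup G) * m')) →
      False := by
    intro a ha h
    have := Nat.mul_lt_mul_of_pos_left (hkq P) (Nat.mul_pos ha (show 0 < q' by omega))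
    nlinarith
  have hBm : ∀ x : G, piClassCount S' (Subgroup.centralizer ({x} : Set G)) ≤ m' := fun x =>
    (piClassCount_le_piPart S' hS' _).trans (piPart_le_of_subgroup S' hS' _)
  rcases eq_or_ne i 1 with rfl | hi1
  swap
  · -- index at least `q²`
    have hj : q ^ 2 ≤ P0.relIndex (P : Subgroup G) := by
      rw [hi]; exact Nat.pow_le_pow_right hq.out.pos (by omega)
    have h := hcomb Y0 Yb m' (Finset.Subset.refl _) (Finset.Subset.refl _)
      (fun y hy => ⟨y, hy, IsConj.refl y⟩) (fun y hy => ⟨y, hy, IsConj.refl y⟩) fun x _ => hBm x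
    rw [hY0c] at h
    have ha := index_arith (b := Yb.card) hq2 hqq' hj (hYbc.trans_eq hmul.symm)
    refine hfin 1 one_pos ?_
    rw [one_mul, one_mul, ← hmul]
    calc q' * k * q ≤ (Nat.card P0 * (q' * m') + Yb.card * m') * q := Nat.mul_le_mul_right q h
      _ = q * (Nat.card P0 * q' + Yb.card) * m' := by ring
      _ ≤ q' * (P0.relIndex (P : Subgroup G) * Nat.card P0) * m' := Nat.mul_le_mul_right m' ha
      _ = _ := by ring
  rw [pow_one] at hi
  rw [hi] at hmul
  have hbq : Yb.card + Nat.card P0 ≤ q * Nat.card P0 := hYbc.trans_eq hmul.symm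
  by_cases hab : IsMulCommutative (P : Subgroup G)
  swap
  · -- nonabelian Sylow subgroup
    haveI hnorm : (P0.subgroupOf (P : Subgroup G)).Normal := by
      refine Subgroup.normal_of_index_eq_minFac_card (Eq.trans hi ?_)
      rw [P.card_eq_multiplicity, hq.out.pow_minFac]
      intro h0
      rw [P.card_eq_multiplicity, h0, pow_zero] at hlt0
      exact (Nat.card_pos (α := P0)).ne' (by omega)
    set Z : Subgroup G := (Subgroup.center (P : Subgroup G)).map (P : Subgroup G).subtype with hZ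
    set F : Finset G := Finset.univ.filter (· ∈ Z) with hF
    have hFc : F.card = Nat.card (Subgroup.center (P : Subgroup G)) := by
      rw [← Subgroup.card_map_of_injective (P : Subgroup G).subtype_injective,
        Nat.card_eq_fintype_card, Fintype.card_subtype]
    have hfix : ∀ y ∈ (P : Subgroup G), (∀ a ∈ (P : Subgroup G), a * y * a⁻¹ = y) → y ∈ F := by
      intro y hy h
      refine Finset.mem_filter.2 ⟨Finset.mem_univ _, ⟨y, hy⟩, ?_, rfl⟩
      exact Subgroup.mem_center_iff.2 fun a =>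
        Subtype.ext (mul_inv_eq_iff_eq_mul.1 (h a a.2))
    have hsA : ∀ r : ℕ, r.Prime → r ∣ Nat.card (P : Subgroup G) → q ≤ r := fun r hr hd => by
      rw [P.card_eq_multiplicity] at hd
      exact ((Nat.prime_dvd_prime_iff_eq hr hq.out).1 (hr.dvd_of_dvd_pow hd)).ge
    obtain ⟨X0, hX0, hX0c, hX0s⟩ := exists_reps (P : Subgroup G) q hq.out.pos hsA Y0
      (fun a ha y hy => (hY0mem _).2 (hnorm.conj_mem ⟨y, hP0P ((hY0mem y).1 hy)⟩
        ((hY0mem y).1 hy) ⟨a, ha⟩))
      F (fun y hy h => hfix y (hP0P ((hY0mem y).1 hy)) h)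
    obtain ⟨X1, hX1, hX1c, hX1s⟩ := exists_reps (P : Subgroup G) q hq.out.pos hsA Yb
      (fun a ha y hy => (hYbmem _).2 ⟨mul_mem (mul_mem ha ((hYbmem y).1 hy).1) (inv_mem ha),
        fun ⟨g, hg⟩ => ((hYbmem y).1 hy).2 ⟨g * a, by
          rwa [show g * a * y * (g * a)⁻¹ = g * (a * y * a⁻¹) * g⁻¹ by group]⟩⟩)
      F (fun y hy h => hfix y ((hYbmem y).1 hy).1 h)
    rw [hY0c] at hX0s
    have hff : (Y0 ∩ F).card + (Yb ∩ F).card ≤ F.card := by
      rw [← Finset.card_union_of_disjoint (Finset.disjoint_left.2 fun x h0 h1 =>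
        hdisj x (Finset.mem_inter.1 h0).1 (Finset.mem_inter.1 h1).1)]
      exact Finset.card_le_card (Finset.union_subset Finset.inter_subset_right
        Finset.inter_subset_right)
    have hz : q * F.card ≤ Nat.card P0 := by
      obtain ⟨j, hj⟩ : ∃ j, (Subgroup.center (P : Subgroup G)).index = q ^ j := P.2.index _
      have hj2 : 2 ≤ j := by
        by_contra hcon
        apply hab
        have hcard : Nat.card ((P : Subgroup G) ⧸ Subgroup.center (P : Subgroup G)) = q ^ j := by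
          rw [← Subgroup.index_eq_card, hj]
        rcases (show j = 0 ∨ j = 1 by omega) with rfl | rfl
        · rw [pow_zero] at hj
          exact ⟨⟨fun a b => (Subgroup.mem_center_iff.1
            (Subgroup.index_eq_one.1 hj ▸ Subgroup.mem_top a : a ∈ Subgroup.center _) b).symm⟩⟩
        · haveI : IsCyclic ((P : Subgroup G) ⧸ Subgroup.center (P : Subgroup G)) :=
            isCyclic_of_prime_card (p := q) (by rw [hcard, pow_one])
          exact ⟨⟨commutative_of_cyclic_center_quotient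
            (QuotientGroup.mk' (Subgroup.center (P : Subgroup G))) (by simp)⟩⟩
      have h1 := (Subgroup.center (P : Subgroup G)).card_mul_index
      rw [hj, ← hmul, ← hFc] at h1
      refine Nat.le_of_mul_le_mul_left ?_ hq.out.pos
      calc q * (q * F.card) = F.card * q ^ 2 := by ring
        _ ≤ F.card * q ^ j := Nat.mul_le_mul_left _ (Nat.pow_le_pow_right hq.out.pos hj2)
        _ = _ := h1
    have h := hcomb X0 X1 m' hX0 hX1 hX0c hX1c fun x _ => hBm x
    have ha := nonabelian_arith hq2 hqq' hX0s hX1s hbq hff hz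
    refine hfin 1 one_pos ?_
    rw [one_mul, one_mul, ← hmul]
    calc q' * k * q ≤ (X0.card * (q' * m') + X1.card * m') * q := Nat.mul_le_mul_right q h
      _ = q * (X0.card * q' + X1.card) * m' := by ring
      _ ≤ q * (q' * Nat.card P0) * m' := Nat.mul_le_mul_right m' ha
      _ = _ := by ring
  -- abelian Sylow subgroup
  set C := Subgroup.centralizer (P0 : Set G) with hC
  have hH0C : H0 ≤ C := Subgroup.le_centralizer_iff.1 hP0C
  have hPC : (P : Subgroup G) ≤ C :=
    (Subgroup.le_centralizer (P : Subgroup G)).trans (Subgroup.centralizer_le hP0P)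
  have hCm : piPart S' C = m' := hH0.piPart_eq hS' hH0C
  have hB : ∀ x ∈ Y0, piClassCount S' (Subgroup.centralizer ({x} : Set G)) ≤ piClassCount S' C :=
    fun x hx => hH0.piClassCount_mono hS' hH0C
      (Subgroup.centralizer_le (Set.singleton_subset_iff.2 ((hY0mem x).1 hx)))
  set PD : Sylow q C := P.subtype hPC with hPD
  have hPDc : Nat.card (PD : Subgroup C) = Nat.card (P : Subgroup G) := by
    rw [hPD, Sylow.coe_subtype, Nat.card_congr (Subgroup.subgroupOfEquivOfLe hPC).toEquiv]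
  have nocD : ∀ (Q : Sylow q C) (H : Subgroup C), IsNH S' H →
      ¬ (Q : Subgroup C) ≤ Subgroup.centralizer (H : Set C) := by
    intro Q H hH hle
    let Q' : Sylow q G := Sylow.ofCard ((Q : Subgroup C).map C.subtype) (by
      rw [Subgroup.card_map_of_injective C.subtype_injective, Q.card_eq_multiplicity,
        ← PD.card_eq_multiplicity, hPDc, P.card_eq_multiplicity])
    refine (noc Q' (H.map C.subtype) (hH.map_subtype hCm) ?_).not_gt hlt0
    show (Q : Subgroup C).map C.subtype ≤ _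
    rintro _ ⟨z, hz, rfl⟩
    refine Subgroup.mem_centralizer_iff.2 ?_
    rintro _ ⟨h, hh, rfl⟩
    exact congrArg Subtype.val (Subgroup.mem_centralizer_iff.1 (hle hz) h hh)
  have hH0D : IsNH S' (H0.subgroupOf C) := hH0.subgroupOf hS' hH0C
  by_cases he : Subgroup.normalizer ((PD : Subgroup C) : Set C) ≤
      Subgroup.centralizer ((PD : Subgroup C) : Set C)
  · obtain ⟨r, hr, R, A, hA, hAC, hAs⟩ :=
      exists_moved_of_burnside PD he hS' hqS' hH0D nocD
    haveI : Fact r.Prime := ⟨hS' r hr⟩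
    have hBr := piClassCount_le_of_moved hS' hr R A hA hAC q hq.out.pos hAs
    rw [hCm] at hBr
    have h := hcomb Y0 Yb _ (Finset.Subset.refl _) (Finset.Subset.refl _)
      (fun y hy => ⟨y, hy, IsConj.refl y⟩) (fun y hy => ⟨y, hy, IsConj.refl y⟩) hB
    rw [hY0c] at h
    have ha := abelian_arith_one hq2 hqq' (hq'min r hr) hBr hbq
    refine hfin (r * q) (Nat.mul_pos (hS' r hr).pos hq.out.pos) ?_
    rw [← hmul]
    calc r * q * (q' * k) * q
        ≤ r * q * (Nat.card P0 * (q' * piClassCount S' C) + Yb.card * m') * q :=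
          Nat.mul_le_mul_right q (Nat.mul_le_mul_left _ h)
      _ ≤ r * q * (q' * Nat.card P0 * m') * q := Nat.mul_le_mul_right q ha
      _ = _ := by ring
  · have hZD : P0.subgroupOf C ≤ Subgroup.center C := fun z hz => Subgroup.mem_center_iff.2
      fun c => Subtype.ext (Subgroup.mem_centralizer_iff.1 c.2 z hz).symm
    have hidx : (P0.subgroupOf C).relIndex (PD : Subgroup C) = q := by
      rw [hPD, Sylow.coe_subtype, Subgroup.relIndex_subgroupOf hPC, hi]
    obtain ⟨r, hr, R, A, hA, hAC⟩ := exists_moved_of_central PD (P0.subgroupOf C) hZD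
      (Subgroup.comap_mono hP0P) hidx hS' hqlt hH0D nocD
    haveI : Fact r.Prime := ⟨hS' r hr⟩
    have hBr := piClassCount_le_of_moved hS' hr R A hA hAC 2 (by omega)
      fun t ht _ => ht.two_le
    rw [hCm] at hBr
    obtain ⟨nn, hnN, hnC⟩ := SetLike.not_le_iff_exists.1 he
    have hnP : (nn : G) ∈ Subgroup.normalizer ((P : Subgroup G) : Set G) := by
      refine Subgroup.mem_normalizer_iff.2 fun x => ?_
      by_cases hx : x ∈ C
      · exact Subgroup.mem_normalizer_iff.1 hnN ⟨x, hx⟩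
      · refine iff_of_false (fun h => hx (hPC h)) fun h => hx ?_
        have h2 := mul_mem (mul_mem (inv_mem nn.2) (hPC h)) nn.2
        simpa [mul_assoc] using h2
    have hzle : Subgroup.zpowers (nn : G) ≤ Subgroup.normalizer ((P : Subgroup G) : Set G) :=
      Subgroup.zpowers_le.2 hnP
    obtain ⟨X1, hX1, hX1c, hX1s⟩ := exists_reps (Subgroup.zpowers (nn : G)) 2 (by omega)
      (fun t ht _ => ht.two_le) Yb
      (fun a ha y hy => (hYbmem _).2
        ⟨(Subgroup.mem_normalizer_iff.1 (hzle ha) y).1 ((hYbmem y).1 hy).1,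
        fun ⟨g, hg⟩ => ((hYbmem y).1 hy).2 ⟨g * a, by
          rwa [show g * a * y * (g * a)⁻¹ = g * (a * y * a⁻¹) * g⁻¹ by group]⟩⟩)
      ∅ (fun y hy h => False.elim (hnC (Subgroup.mem_centralizer_iff.2 fun x hx => by
        obtain ⟨hyP, hyno⟩ := (hYbmem y).1 hy
        have hall : (P : Subgroup G) ≤
            (P : Subgroup G) ⊓ Subgroup.centralizer ({(nn : G)} : Set G) := by
          refine eq_of_relIndex_prime hq.out ?_ inf_le_left hi
            (Subgroup.mem_inf.2 ⟨hyP, ?_⟩) fun h0 => hyno ⟨1, by simpa using h0⟩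
          · refine le_inf hP0P fun z hz => ?_
            rw [Subgroup.mem_centralizer_singleton_iff]
            exact Subgroup.mem_centralizer_iff.1 nn.2 z hz
          · rw [Subgroup.mem_centralizer_singleton_iff]
            exact (mul_inv_eq_iff_eq_mul.1 (h _ (Subgroup.mem_zpowers _))).symm
        have h2 := (Subgroup.mem_inf.1 (hall (hx : (x : G) ∈ (P : Subgroup G)))).2
        rw [Subgroup.mem_centralizer_singleton_iff] at h2
        exact Subtype.ext h2)))
    have h := hcomb Y0 X1 _ (Finset.Subset.refl _) hX1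
      (fun y hy => ⟨y, hy, IsConj.refl y⟩) hX1c hB
    rw [hY0c] at h
    have hx1 : 2 * X1.card + Nat.card P0 ≤ q * Nat.card P0 := by
      rw [Finset.inter_empty, Finset.card_empty, mul_zero, add_zero] at hX1s
      omega
    have ha := abelian_arith_two hq2 hqq' (hq'min r hr) hBr hx1
    refine hfin (r * 2) (Nat.mul_pos (hS' r hr).pos (by omega)) ?_
    rw [← hmul]
    calc r * 2 * (q' * k) * q
        ≤ r * 2 * (Nat.card P0 * (q' * piClassCount S' C) + X1.card * m') * q :=
          Nat.mul_le_mul_right q (Nat.mul_le_mul_left _ h)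
      _ ≤ r * 2 * (q' * Nat.card P0 * m') * q := Nat.mul_le_mul_right q ha
      _ = _ := by ring

end CfsgLib.PiClasses
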