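import Cfsg.Agent.Lib.PiClasses.Orbit
import Cfsg.Agent.Lib.Transfer.Hall

set_option autoImplicit false

/-! When no Sylow `q`-subgroup centralises a nilpotent Hall subgroup, some Sylow subgroup is
moved. -/

namespace CfsgLib.PiClasses

open CfsgLib.ClassCount
open scoped Pointwise

universe u

variable {D : Type u} [Group D] [Finite D]

/-- A group normalising a nilpotent Hall subgroup and fixing all its Sylow subgroups centralises
it. -/
theorem exists_moved {S : Finset ℕ} (hS : ∀ r ∈ S, r.Prime) {H : Subgroup D} (hH : IsNH S H)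
    (A : Subgroup D) (hA : A ≤ Subgroup.normalizer (H : Set D))
    (hAC : ¬ A ≤ Subgroup.centralizer (H : Set D)) :
    ∃ r ∈ S, ∃ R : Sylow r D, A ≤ Subgroup.normalizer ((R : Subgroup D) : Set D) ∧
      ¬ A ≤ Subgroup.centralizer ((R : Subgroup D) : Set D) := by
  classical
  haveI := hH.1
  by_contra hcon
  push Not at hcon
  apply hAC
  rw [Subgroup.le_centralizer_iff]
  refine fun x hx => ?_
  have key : H ≤ Subgroup.centralizer (A : Set D) := by
    rw [← Subgroup.relIndex_eq_one, Nat.eq_one_iff_not_exists_prime_dvd]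
    intro r hr hd
    haveI := Fact.mk hr
    obtain ⟨Q⟩ : Nonempty (Sylow r H) := inferInstance
    apply Q.not_dvd_index
    refine hd.trans ?_
    rw [Subgroup.relIndex]
    refine Subgroup.index_dvd_of_le fun z hz => ?_
    have hrH : r ∣ Nat.card H := hd.trans (Subgroup.relIndex_dvd_card _ _)
    have hrS : r ∈ S := hH.mem_of_dvd hS hr hrH
    -- the Sylow subgroup of `H` is one of the whole group
    let R' : Subgroup D := (Q : Subgroup H).map H.subtype
    have hR'i : ¬ r ∣ R'.index := by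
      rw [Subgroup.index_map_subtype]
      exact Nat.Prime.not_dvd_mul hr Q.not_dvd_index (hH.not_dvd_index hr hrS)
    let R : Sylow r D := (Q.2.map H.subtype).toSylow hR'i
    have hQn : (Q : Subgroup H).Normal :=
      Sylow.normal_of_normalizerCondition (normalizerCondition_of_isNilpotent (G := H)) Q
    have hchar : ∀ w ∈ R', ∀ a ∈ A, a * w * a⁻¹ ∈ R' := by
      rintro _ ⟨w, hw, rfl⟩ a ha
      have hmem : a * (w : D) * a⁻¹ ∈ H := (Subgroup.mem_normalizer_iff.1 (hA ha) w).1 w.2
      refine ⟨⟨_, hmem⟩, ?_, rfl⟩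
      haveI := hQn
      obtain ⟨i, hi⟩ := IsPGroup.iff_orderOf.1 Q.2 ⟨w, hw⟩
      rw [Subgroup.orderOf_mk] at hi
      have hp : IsPGroup r (Subgroup.zpowers (⟨_, hmem⟩ : H)) := by
        refine IsPGroup.of_card (n := i) ?_
        have h2 : orderOf (a * (w : D) * a⁻¹) = orderOf (w : D) := (MulAut.conj a).orderOf_eq _
        rw [Nat.card_zpowers, ← hi, ← Subgroup.orderOf_coe, ← Subgroup.orderOf_coe, h2]
      obtain ⟨Q', hQ'⟩ := hp.exists_le_sylow
      obtain ⟨g, hg⟩ := MulAction.exists_smul_eq H Q Q'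
      have heq : Q' = Q := by
        rw [← hg]
        exact Sylow.smul_eq_iff_mem_normalizer.2 (by
          have h3 : g ∈ Subgroup.normalizer ((Q : Subgroup H) : Set H) := by
            rw [Subgroup.normalizer_eq_top_iff.2 hQn]; trivial
          simpa using h3)
      rw [← heq]
      exact hQ' (Subgroup.mem_zpowers _)
    have hAR : A ≤ Subgroup.normalizer ((R : Subgroup D) : Set D) := by
      intro a ha
      refine Subgroup.mem_normalizer_iff.2 fun w => ⟨fun hw => hchar w hw a ha, fun hw => ?_⟩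
      have h2 := hchar _ hw a⁻¹ (inv_mem ha)
      show w ∈ R'
      simpa [mul_assoc] using h2
    have hRC := hcon r hrS R hAR
    exact Subgroup.mem_centralizer_iff.2 fun a ha =>
      ((Subgroup.mem_centralizer_iff.1 (hRC ha) _ ⟨z, hz, rfl⟩)).symm
  exact key hx

/-- With `N(P) ≤ C(P)` a Sylow `q`-subgroup moves a Sylow subgroup of the Hall subgroup. -/
theorem exists_moved_of_burnside {q : ℕ} [hq : Fact q.Prime] (P : Sylow q D)
    (hP : Subgroup.normalizer ((P : Subgroup D) : Set D) ≤
      Subgroup.centralizer ((P : Subgroup D) : Set D))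
    {S : Finset ℕ} (hS : ∀ r ∈ S, r.Prime) (hqS : q ∉ S) {H : Subgroup D} (hH : IsNH S H)
    (noc : ∀ (Q : Sylow q D) (H' : Subgroup D), IsNH S H' →
      ¬ (Q : Subgroup D) ≤ Subgroup.centralizer (H' : Set D)) :
    ∃ r ∈ S, ∃ (R : Sylow r D) (A : Subgroup D),
      A ≤ Subgroup.normalizer ((R : Subgroup D) : Set D) ∧
      ¬ A ≤ Subgroup.centralizer ((R : Subgroup D) : Set D) ∧
      ∀ t : ℕ, t.Prime → t ∣ Nat.card A → q ≤ t := by
  classical
  set O := (MonoidHom.transferSylow P hP).ker with hO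
  have hc : O.IsComplement' (P : Subgroup D) := MonoidHom.ker_transferSylow_isComplement' P hP
  have hHO : H ≤ O := by
    intro x hx
    refine NilpotentSubgroups.mem_complement_of_coprime hc ?_
    refine Nat.Coprime.symm (hq.out.coprime_iff_not_dvd.2 fun hd => hqS ?_)
    exact hH.mem_of_dvd hS hq.out (hd.trans (Subgroup.orderOf_dvd_natCard H hx))
  set N := Subgroup.normalizer (H : Set D) with hN
  have hcov : ∀ d : D, ∃ o ∈ O, o⁻¹ * d ∈ N := by
    intro d
    have hle : (MulAut.conj d • H : Subgroup D) ≤ O := by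
      intro x hx
      rw [Subgroup.mem_pointwise_smul_iff_inv_smul_mem] at hx
      have := (inferInstance : O.Normal).conj_mem _ (hHO hx) d
      simpa [MulAut.conj_symm_apply, mul_assoc] using this
    obtain ⟨o, ho⟩ := (hH.subgroupOf hS hHO).conj hS ((hH.smul d).subgroupOf hS hle)
    refine ⟨o, o.2, Subgroup.mem_normalizer_iff.2 fun x => ?_⟩
    have key : ∀ y : O, (y : D) ∈ (MulAut.conj d • H : Subgroup D) ↔
        (o : D)⁻¹ * y * o ∈ H := by
      intro y
      have h1 := SetLike.ext_iff.1 ho y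
      rw [Subgroup.mem_subgroupOf, Subgroup.mem_pointwise_smul_iff_inv_smul_mem
        (S := H.subgroupOf O), Subgroup.mem_subgroupOf] at h1
      simpa [MulAut.conj_symm_apply, mul_assoc] using h1
    have key2 : ∀ y : D, y ∈ (MulAut.conj d • H : Subgroup D) ↔ (o : D)⁻¹ * y * o ∈ H := by
      intro y
      by_cases hy : y ∈ O
      · exact key ⟨y, hy⟩
      · refine iff_of_false (fun h => hy (hle h)) fun h => hy ?_
        have := O.mul_mem (O.mul_mem o.2 (hHO h)) (O.inv_mem o.2)
        simpa [mul_assoc] using this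
    have h2 := key2 (d * x * d⁻¹)
    have h3 : d * x * d⁻¹ ∈ (MulAut.conj d • H : Subgroup D) ↔ x ∈ H :=
      (Subgroup.smul_mem_pointwise_smul_iff (a := MulAut.conj d) (S := H) (x := x))
    rw [h3] at h2
    rw [h2]
    simp [mul_assoc]
  have hPN : Nat.card (P : Subgroup D) ∣ Nat.card N := by
    have htop : O ⊔ N = ⊤ := by
      refine eq_top_iff.2 fun d _ => ?_
      obtain ⟨o, ho, hn⟩ := hcov d
      have := mul_mem (Subgroup.mem_sup_left (T := N) ho) (Subgroup.mem_sup_right (S := O) hn)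
      simpa using this
    have h1 : O.relIndex N = O.index := by
      rw [← Subgroup.relIndex_top_right O, ← htop, Subgroup.relIndex_sup_left]
    rw [← hc.symm.index_eq_card, ← h1]
    exact Subgroup.relIndex_dvd_card O N
  obtain ⟨Q0, hQ0⟩ := Sylow.exists_subgroup_card_pow_prime q
    (G := N) (n := (Nat.card D).factorization q) (by rwa [← P.card_eq_multiplicity])
  let Q : Sylow q D := Sylow.ofCard (Q0.map N.subtype)
    (by rw [Subgroup.card_map_of_injective N.subtype_injective, hQ0])
  have hQN : (Q : Subgroup D) ≤ N := by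
    show Q0.map N.subtype ≤ N
    exact Subgroup.map_subtype_le _
  obtain ⟨r, hr, R, hR1, hR2⟩ := exists_moved hS hH _ hQN (noc Q H hH)
  refine ⟨r, hr, R, Q, hR1, hR2, fun t ht hd => ?_⟩
  obtain ⟨i, hi⟩ := Q.2.exists_card_eq
  rw [hi] at hd
  exact ((Nat.prime_dvd_prime_iff_eq ht hq.out).1 (ht.dvd_of_dvd_pow hd)).ge

/-- An element of order prime to `q (q - 1)` normalising `P` and fixing a subgroup `Z` of index
`q` pointwise fixes `P`. -/
theorem conj_eq_self {q : ℕ} [hq : Fact q.Prime] {Z P : Subgroup D} [Z.Normal] (hZP : Z ≤ P)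
    (hP : IsPGroup q P) (hidx : Z.relIndex P = q) {h : D}
    (hnorm : ∀ y ∈ P, h * y * h⁻¹ ∈ P) (hZ : ∀ z ∈ Z, h * z = z * h)
    (hq1 : (orderOf h).Coprime q) (hq2 : (orderOf h).Coprime (q - 1)) :
    ∀ x ∈ P, h * x * h⁻¹ = x := by
  intro x hx
  by_cases hxZ : x ∈ Z
  · rw [hZ x hxZ, mul_inv_cancel_right]
  let f := QuotientGroup.mk' Z
  have hcard : Nat.card (P.map f) = q := by
    have h2 : f.ker.relIndex P = Nat.card (P.map f) := Subgroup.relIndex_ker P f
    rw [← h2, QuotientGroup.ker_mk', hidx]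
  have hfx : f x ≠ 1 := fun h1 => hxZ ((QuotientGroup.eq_one_iff x).1 h1)
  have hord : orderOf (f x) = q := by
    rcases (Nat.dvd_prime hq.out).1
      (hcard ▸ Subgroup.orderOf_dvd_natCard (P.map f) ⟨x, hx, rfl⟩) with h1 | h1
    · exact absurd (orderOf_eq_one_iff.1 h1) hfx
    · exact h1
  have hgen : Subgroup.zpowers (f x) = P.map f := by
    refine Subgroup.eq_of_le_of_card_ge (Subgroup.zpowers_le.2 ⟨x, hx, rfl⟩) ?_
    rw [Nat.card_zpowers, hord, hcard]
  have hin : f (h * x * h⁻¹) ∈ Subgroup.zpowers (f x) := hgen ▸ ⟨_, hnorm x hx, rfl⟩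
  obtain ⟨j, hj⟩ := Submonoid.mem_powers_iff _ _ |>.1 (mem_powers_iff_mem_zpowers.2 hin)
  have hconj : MulAut.conj (f h) (f x) = f x ^ j := by
    rw [MulAut.conj_apply, hj, map_mul, map_mul, map_inv]
  have hiter : ∀ n : ℕ, MulAut.conj (f h ^ n) (f x) = f x ^ (j ^ n) := by
    intro n
    induction n with
    | zero => simp
    | succ n ih =>
      rw [pow_succ', map_mul, MulAut.mul_apply, ih, map_pow, hconj, ← pow_mul, ← pow_succ']
  have hj1 : f x ^ j = f x := by
    have h1 := hiter (orderOf h)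
    rw [← map_pow f, pow_orderOf_eq_one, map_one, map_one] at h1
    have h2 : (j ^ orderOf h : ℕ) ≡ 1 [MOD q] := by
      rw [← hord, ← pow_eq_pow_iff_modEq, pow_one]
      exact h1.symm
    have hz : (j : ZMod q) ^ orderOf h = 1 := by
      have := (ZMod.natCast_eq_natCast_iff _ _ q).2 h2
      simpa using this
    have hj0 : (j : ZMod q) ≠ 0 := by
      intro h0
      rw [h0, zero_pow (orderOf_pos h).ne'] at hz
      exact zero_ne_one hz
    have h3 : orderOf (j : ZMod q) = 1 :=
      Nat.eq_one_of_dvd_coprimes hq2 (orderOf_dvd_of_pow_eq_one hz)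
        (orderOf_dvd_of_pow_eq_one (ZMod.pow_card_sub_one_eq_one hj0))
    have h4 : (j : ZMod q) = ((1 : ℕ) : ZMod q) := by
      rw [Nat.cast_one]; exact orderOf_eq_one_iff.1 h3
    conv_rhs => rw [← pow_one (f x)]
    rw [pow_eq_pow_iff_modEq, hord]
    exact (ZMod.natCast_eq_natCast_iff _ _ q).1 h4
  have hz : x⁻¹ * (h * x * h⁻¹) ∈ Z := by
    rw [← QuotientGroup.eq_one_iff]
    show f (x⁻¹ * (h * x * h⁻¹)) = 1
    rw [map_mul, map_inv, ← hj, hj1, inv_mul_cancel]
  set z := x⁻¹ * (h * x * h⁻¹) with hzdef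
  have hx' : h * x * h⁻¹ = x * z := by rw [hzdef]; group
  have hiter2 : ∀ n : ℕ, MulAut.conj (h ^ n) x = x * z ^ n := by
    intro n
    induction n with
    | zero => simp
    | succ n ih =>
      have hzc : MulAut.conj h z = z := by
        rw [MulAut.conj_apply, hZ z hz, mul_inv_cancel_right]
      rw [pow_succ', map_mul, MulAut.mul_apply, ih, map_mul, map_pow, hzc, MulAut.conj_apply, hx',
        pow_succ', mul_assoc]
  have h5 := hiter2 (orderOf h)
  rw [pow_orderOf_eq_one, map_one, MulAut.one_apply, eq_comm, mul_eq_left] at h5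
  obtain ⟨i, hi⟩ := IsPGroup.iff_orderOf.1 hP ⟨z, hZP hz⟩
  rw [Subgroup.orderOf_mk] at hi
  have h6 : orderOf z = 1 := Nat.eq_one_of_dvd_coprimes (hq1.pow_right i)
    (orderOf_dvd_of_pow_eq_one h5) hi.dvd
  rw [hx', orderOf_eq_one_iff.1 h6, mul_one]

/-- With a central subgroup of index `q` in a Sylow `q`-subgroup, some Sylow subgroup of the Hall
subgroup is moved by its normaliser. -/
theorem exists_moved_of_central {q : ℕ} [hq : Fact q.Prime] (P : Sylow q D) (Z : Subgroup D)
    (hZ : Z ≤ Subgroup.center D) (hZP : Z ≤ (P : Subgroup D))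
    (hidx : Z.relIndex (P : Subgroup D) = q)
    {S : Finset ℕ} (hS : ∀ r ∈ S, r.Prime) (hgt : ∀ r ∈ S, q < r) {H : Subgroup D}
    (hH : IsNH S H)
    (noc : ∀ (Q : Sylow q D) (H' : Subgroup D), IsNH S H' →
      ¬ (Q : Subgroup D) ≤ Subgroup.centralizer (H' : Set D)) :
    ∃ r ∈ S, ∃ (R : Sylow r D) (A : Subgroup D),
      A ≤ Subgroup.normalizer ((R : Subgroup D) : Set D) ∧
      ¬ A ≤ Subgroup.centralizer ((R : Subgroup D) : Set D) := by
  classical
  by_contra hcon
  push Not at hcon
  have hcompl : ∀ r : ℕ, r.Prime → r ∣ Nat.card H → Cfsg.HasNormalPComplement r D := by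
    intro r hr hd
    haveI := Fact.mk hr
    let R : Sylow r D := default
    exact ⟨R, _, inferInstance, MonoidHom.ker_transferSylow_isComplement' R
      (hcon r (hH.mem_of_dvd hS hr hd) R _ le_rfl)⟩
  obtain ⟨N, hNn, hc⟩ :=
    Transfer.exists_normal_complement_of_forall H (hH.coprime hS) hcompl
  haveI := hNn
  have hidxN : N.index = Nat.card H := hc.symm.index_eq_card
  have hPN : (P : Subgroup D) ≤ N := by
    intro x hx
    rw [← QuotientGroup.eq_one_iff, ← orderOf_eq_one_iff]
    obtain ⟨i, hi⟩ := IsPGroup.iff_orderOf.1 P.2 ⟨x, hx⟩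
    rw [Subgroup.orderOf_mk] at hi
    have hqH : q.Coprime (Nat.card H) := hq.out.coprime_iff_not_dvd.2
      fun hd => lt_irrefl q (hgt q (hH.mem_of_dvd hS hq.out hd))
    refine Nat.eq_one_of_dvd_coprimes (hqH.pow_left i)
      (hi ▸ orderOf_map_dvd (QuotientGroup.mk' N) x) ?_
    rw [← hidxN, Subgroup.index]
    exact orderOf_dvd_natCard _
  set M := Subgroup.normalizer ((P : Subgroup D) : Set D) with hM
  have hfr : M ⊔ N = ⊤ := by
    have h1 := Sylow.normalizer_sup_eq_top (P.subtype hPN)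
    rwa [Sylow.coe_subtype, Subgroup.map_subgroupOf_eq_of_le hPN] at h1
  have hNM : N.relIndex M = Nat.card H := by
    rw [← hidxN, ← Subgroup.relIndex_top_right N, ← hfr, Subgroup.relIndex_sup_right]
  have hcop : Nat.Coprime (Nat.card (N.subgroupOf M)) (N.subgroupOf M).index := by
    rw [show (N.subgroupOf M).index = Nat.card H from hNM]
    refine Nat.Coprime.coprime_dvd_left ?_ (hH.coprime hS).symm
    rw [hc.index_eq_card]
    exact Subgroup.card_comap_dvd_of_injective N M.subtype M.subtype_injective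
  obtain ⟨K0, hK0⟩ := Subgroup.exists_right_complement'_of_coprime hcop
  set K : Subgroup D := K0.map M.subtype with hK
  have hKc : Nat.card K = Nat.card H := by
    rw [hK, Subgroup.card_map_of_injective M.subtype_injective, ← hK0.symm.index_eq_card]
    exact hNM
  have hcopN : ∀ L : Subgroup D, Nat.card L = Nat.card H → L ⊓ N = ⊥ := fun L hL =>
    Subgroup.inf_eq_bot_of_coprime (by rw [hL, ← hc.index_eq_card]; exact hH.coprime hS)
  haveI hquot : Group.IsNilpotent (D ⧸ N) := by
    haveI := hH.1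
    refine Group.nilpotent_of_surjective ((QuotientGroup.mk' N).comp H.subtype) fun y => ?_
    obtain ⟨d, rfl⟩ := QuotientGroup.mk'_surjective N y
    obtain ⟨⟨n, h⟩, hnh : (n : D) * (h : D) = d⟩ := hc.2 d
    refine ⟨h, ?_⟩
    rw [← hnh, map_mul, show QuotientGroup.mk' N (n : D) = 1 from (QuotientGroup.eq_one_iff _).2 n.2,
      one_mul]
    rfl
  have hKnh : IsNH S K := by
    refine ⟨?_, hKc.trans hH.2⟩
    have hinj : Function.Injective ((QuotientGroup.mk' N).comp K.subtype) := by
      rw [← MonoidHom.ker_eq_bot_iff, eq_bot_iff]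
      intro k hk
      have : (k : D) ∈ K ⊓ N := ⟨k.2, (QuotientGroup.eq_one_iff _).1 hk⟩
      rw [hcopN K hKc, Subgroup.mem_bot] at this
      exact Subgroup.mem_bot.2 (Subtype.ext this)
    exact Group.nilpotent_of_mulEquiv (MonoidHom.ofInjective hinj).symm
  haveI : Z.Normal := ⟨fun z hz d => by
    rwa [Subgroup.mem_center_iff.1 (hZ hz) d, mul_inv_cancel_right]⟩
  refine noc P K hKnh ?_
  rw [Subgroup.le_centralizer_iff]
  intro h hh
  refine Subgroup.mem_centralizer_iff.2 fun x hx => ?_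
  have hKM : K ≤ M := Subgroup.map_subtype_le _
  have hbig : ∀ t : ℕ, t.Prime → t ∣ orderOf h → q < t := fun t ht hd =>
    hgt t (hKnh.mem_of_dvd hS ht (hd.trans (Subgroup.orderOf_dvd_natCard K hh)))
  have h1 : (orderOf h).Coprime q :=
    Nat.coprime_of_dvd fun t ht hd hd' => (hbig t ht hd).not_ge (Nat.le_of_dvd hq.out.pos hd')
  have h2 : (orderOf h).Coprime (q - 1) := Nat.coprime_of_dvd fun t ht hd hd' => by
    have := hbig t ht hd
    have := Nat.le_of_dvd (by have := hq.out.two_le; omega) hd'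
    omega
  exact (mul_inv_eq_iff_eq_mul.1 (conj_eq_self hZP P.2 hidx
    (fun y hy => (Subgroup.mem_normalizer_iff.1 (hKM hh) y).1 hy)
    (fun z hz => Subgroup.mem_center_iff.1 (hZ hz) h) h1 h2 x hx)).symm

end CfsgLib.PiClasses
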