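import Cfsg.Agent.Lib.PiClasses.Count

set_option autoImplicit false

/-! Representatives of conjugation orbits and the resulting bound on `k_S`. -/

namespace CfsgLib.PiClasses

open CfsgLib.ClassCount

universe u

variable {G : Type u} [Group G]

open Classical in
/-- Orbit representatives of a conjugation-invariant finite set. -/
theorem exists_reps [Finite G] (A : Subgroup G) (s : ℕ) (hs1 : 1 ≤ s)
    (hs : ∀ r : ℕ, r.Prime → r ∣ Nat.card A → s ≤ r) (Y : Finset G)
    (hY : ∀ a ∈ A, ∀ y ∈ Y, a * y * a⁻¹ ∈ Y) (F : Finset G)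
    (hF : ∀ y ∈ Y, (∀ a ∈ A, a * y * a⁻¹ = y) → y ∈ F) :
    ∃ X : Finset G, X ⊆ Y ∧ (∀ y ∈ Y, ∃ x ∈ X, IsConj x y) ∧
      s * X.card ≤ Y.card + (s - 1) * (Y ∩ F).card := by
  classical
  induction hn : Y.card using Nat.strong_induction_on generalizing Y with
  | _ n ih =>
  subst hn
  rcases Y.eq_empty_or_nonempty with rfl | ⟨y, hy⟩
  · exact ⟨∅, Finset.Subset.refl _, by simp, by simp⟩
  haveI : Fintype A := Fintype.ofFinite A
  letI : MulAction A G := MulAction.compHom G (MulAut.conj.comp A.subtype)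
  have hsmul : ∀ (a : A) (x : G), a • x = (a : G) * x * (a : G)⁻¹ := fun a x => rfl
  set O : Finset G := (Finset.univ : Finset A).image (fun a => a • y) with hO
  have hyO : y ∈ O := Finset.mem_image.2 ⟨1, Finset.mem_univ _, one_smul _ _⟩
  have hOY : O ⊆ Y := by
    intro x hx
    obtain ⟨a, -, rfl⟩ := Finset.mem_image.1 hx
    exact hY a a.2 y hy
  have hinv : ∀ a ∈ A, ∀ x ∈ Y \ O, a * x * a⁻¹ ∈ Y \ O := by
    intro a ha x hx
    rw [Finset.mem_sdiff] at hx ⊢
    refine ⟨hY a ha x hx.1, fun h => hx.2 ?_⟩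
    obtain ⟨b, -, hb⟩ := Finset.mem_image.1 h
    refine Finset.mem_image.2 ⟨(⟨a, ha⟩ : A)⁻¹ * b, Finset.mem_univ _, ?_⟩
    rw [mul_smul, hb, hsmul]
    show a⁻¹ * (a * x * a⁻¹) * a⁻¹⁻¹ = x
    group
  have hlt : (Y \ O).card < Y.card :=
    Finset.card_lt_card (Finset.ssubset_iff_subset_ne.2 ⟨Finset.sdiff_subset,
      fun h => (Finset.mem_sdiff.1 (h.symm ▸ hy : y ∈ Y \ O)).2 hyO⟩)
  obtain ⟨X, hXY, hXc, hXs⟩ := ih _ hlt (Y \ O) hinv
    (fun x hx => hF x (Finset.mem_sdiff.1 hx).1) rfl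
  refine ⟨insert y X, Finset.insert_subset hy (hXY.trans Finset.sdiff_subset), ?_, ?_⟩
  · intro x hx
    by_cases hxO : x ∈ O
    · obtain ⟨a, -, rfl⟩ := Finset.mem_image.1 hxO
      exact ⟨y, Finset.mem_insert_self _ _, isConj_iff.2 ⟨a, rfl⟩⟩
    · obtain ⟨z, hz, hzx⟩ := hXc x (Finset.mem_sdiff.2 ⟨hx, hxO⟩)
      exact ⟨z, Finset.mem_insert_of_mem hz, hzx⟩
  · have hcY : Y.card = (Y \ O).card + O.card := (Finset.card_sdiff_add_card_eq_card hOY).symm
    have hcard : O.card ∣ Nat.card A := by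
      have h1 : O.card = Nat.card (MulAction.orbit A y) := by
        rw [show MulAction.orbit A y = (O : Set G) by
          ext x
          simp [O, MulAction.mem_orbit_iff], Nat.card_coe_set_eq, Set.ncard_coe_finset]
      rw [h1, Nat.card_coe_set_eq, ← MulAction.index_stabilizer, ← (MulAction.stabilizer A y).card_mul_index]
      exact Dvd.intro_left _ rfl
    have hsub : ((Y \ O) ∩ F).card ≤ (Y ∩ F).card :=
      Finset.card_le_card (Finset.inter_subset_inter_right Finset.sdiff_subset)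
    have hne : ¬ O.card = 0 := Finset.card_ne_zero.2 ⟨y, hyO⟩
    rw [Finset.card_insert_of_notMem fun h => (Finset.mem_sdiff.1 (hXY h)).2 hyO, Nat.mul_succ]
    rcases eq_or_ne O.card 1 with h1 | h1
    · -- `y` is fixed
      have hyF : y ∈ F := hF y hy fun a ha => by
        obtain ⟨z, hz⟩ := Finset.card_eq_one.1 h1
        have h2 : (⟨a, ha⟩ : A) • y ∈ O := Finset.mem_image.2 ⟨_, Finset.mem_univ _, rfl⟩
        rw [hz, Finset.mem_singleton] at h2 hyO
        exact h2.trans hyO.symm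
      have hss : ((Y \ O) ∩ F).card + 1 ≤ (Y ∩ F).card := by
        refine Finset.card_lt_card (Finset.ssubset_iff_subset_ne.2
          ⟨Finset.inter_subset_inter_right Finset.sdiff_subset, fun h => ?_⟩)
        have h2 : y ∈ (Y \ O) ∩ F := h.symm ▸ Finset.mem_inter.2 ⟨hy, hyF⟩
        exact (Finset.mem_sdiff.1 (Finset.mem_inter.1 h2).1).2 hyO
      calc s * X.card + s
          ≤ (Y \ O).card + (s - 1) * ((Y \ O) ∩ F).card + ((s - 1) + O.card) := by omega
        _ = (Y \ O).card + O.card + (s - 1) * (((Y \ O) ∩ F).card + 1) := by ring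
        _ ≤ Y.card + (s - 1) * (Y ∩ F).card := by
            rw [hcY]; exact Nat.add_le_add_left (Nat.mul_le_mul_left _ hss) _
    · obtain ⟨r, hr, hrd⟩ := Nat.exists_prime_and_dvd h1
      have hsr : s ≤ O.card :=
        (hs r hr (hrd.trans hcard)).trans (Nat.le_of_dvd (Nat.pos_of_ne_zero hne) hrd)
      calc s * X.card + s
          ≤ (Y \ O).card + (s - 1) * ((Y \ O) ∩ F).card + O.card := Nat.add_le_add hXs hsr
        _ ≤ (Y \ O).card + (s - 1) * (Y ∩ F).card + O.card := by
            have := Nat.mul_le_mul_left (s - 1) hsub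
            omega
        _ = Y.card + (s - 1) * (Y ∩ F).card := by rw [hcY]; ring

/-- A group `A` moving a Sylow `r`-subgroup shrinks `k_S`. -/
theorem piClassCount_le_of_moved [Finite G] {S : Finset ℕ} (hS : ∀ t ∈ S, t.Prime) {r : ℕ}
    [hr : Fact r.Prime] (hrS : r ∈ S) (R : Sylow r G) (A : Subgroup G)
    (hA : A ≤ Subgroup.normalizer ((R : Subgroup G) : Set G))
    (hAC : ¬ A ≤ Subgroup.centralizer ((R : Subgroup G) : Set G)) (s : ℕ) (hs1 : 1 ≤ s)
    (hs : ∀ t : ℕ, t.Prime → t ∣ Nat.card A → s ≤ t) :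
    r * s * piClassCount S G ≤ (r + s - 1) * piPart S G := by
  classical
  haveI := Fintype.ofFinite G
  let Y : Finset G := Finset.univ.filter (· ∈ (R : Subgroup G))
  let K : Subgroup G := (R : Subgroup G) ⊓ Subgroup.centralizer (A : Set G)
  let F : Finset G := Finset.univ.filter (· ∈ K)
  have hYmem : ∀ x, x ∈ Y ↔ x ∈ (R : Subgroup G) := fun x => by simp [Y]
  have hYc : Y.card = Nat.card (R : Subgroup G) := by
    rw [Nat.card_eq_fintype_card, Fintype.card_subtype]
  have hFc : F.card = Nat.card K := by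
    rw [Nat.card_eq_fintype_card, Fintype.card_subtype]
  obtain ⟨X, -, hXc, hXs⟩ := exists_reps A s hs1 hs Y
    (fun a ha y hy => (hYmem _).2 ((Subgroup.mem_normalizer_iff.1 (hA ha) y).1 ((hYmem y).1 hy))) F
    (fun y hy hfix => Finset.mem_filter.2 ⟨Finset.mem_univ _, (hYmem y).1 hy,
      Subgroup.mem_centralizer_iff.2 fun a ha => mul_inv_eq_iff_eq_mul.1 (hfix a ha)⟩)
  have hX : ∀ a : G, PiElt {r} a → ∃ y ∈ X, IsConj y a := by
    intro a ha
    obtain ⟨y, hy, hya⟩ := exists_mem_sylow_isConj R ha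
    obtain ⟨x, hx, hxy⟩ := hXc y ((hYmem y).2 hy)
    exact ⟨x, hx, hxy.trans hya⟩
  have h1 := piClassCount_le_card_mul hS hrS X hX
  have hYF : (Y ∩ F).card ≤ Nat.card K := hFc ▸ Finset.card_le_card Finset.inter_subset_right
  -- the fixed points form a proper subgroup
  have hK : r * Nat.card K ≤ Nat.card (R : Subgroup G) := by
    have hKR : K ≤ (R : Subgroup G) := inf_le_left
    have hne : K.relIndex (R : Subgroup G) ≠ 1 := fun h => hAC
      (Subgroup.le_centralizer_iff.1 ((Subgroup.relIndex_eq_one.1 h).trans inf_le_right))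
    obtain ⟨j, hj⟩ := R.2.index (K.subgroupOf (R : Subgroup G))
    have h2 : Nat.card K * K.relIndex (R : Subgroup G) = Nat.card (R : Subgroup G) := by
      rw [← Nat.card_congr (Subgroup.subgroupOfEquivOfLe hKR).toEquiv]
      exact Subgroup.card_mul_index _
    rw [Subgroup.relIndex] at hne h2
    rw [hj] at hne h2
    have hj0 : j ≠ 0 := fun h => hne (by rw [h, pow_zero])
    rw [← h2, mul_comm]
    exact Nat.mul_le_mul_left _ (Nat.le_self_pow hj0 r)
  have hsplit : piPart S G = Nat.card (R : Subgroup G) * piPart (S.erase r) G := by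
    rw [R.card_eq_multiplicity]
    exact (Finset.mul_prod_erase S (fun t => t ^ (Nat.card G).factorization t) hrS).symm
  rw [hYc] at hXs
  obtain ⟨e, rfl⟩ : ∃ e, s = e + 1 := ⟨s - 1, by omega⟩
  rw [show r + (e + 1) - 1 = r + e by omega, hsplit]
  rw [Nat.add_sub_cancel] at hXs
  have h3 : r * ((e + 1) * X.card) ≤ (r + e) * Nat.card (R : Subgroup G) := by
    calc r * ((e + 1) * X.card)
        ≤ r * (Nat.card (R : Subgroup G) + e * Nat.card K) :=
          Nat.mul_le_mul_left _ (hXs.trans (Nat.add_le_add_left (Nat.mul_le_mul_left _ hYF) _))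
      _ = r * Nat.card (R : Subgroup G) + e * (r * Nat.card K) := by ring
      _ ≤ r * Nat.card (R : Subgroup G) + e * Nat.card (R : Subgroup G) :=
          Nat.add_le_add_left (Nat.mul_le_mul_left _ hK) _
      _ = _ := by ring
  calc r * (e + 1) * piClassCount S G
      ≤ r * (e + 1) * (X.card * piPart (S.erase r) G) := Nat.mul_le_mul_left _ h1
    _ = r * ((e + 1) * X.card) * piPart (S.erase r) G := by ring
    _ ≤ (r + e) * Nat.card (R : Subgroup G) * piPart (S.erase r) G := Nat.mul_le_mul_right _ h3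
    _ = _ := by ring

end CfsgLib.PiClasses
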